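import Cfsg.Agent.H922.Ore.GraphEng
import Cfsg.Agent.H78.Pw.Base

/-!
# Class covers of helper922's graph engine as a theorem, and products of two elements of order prime to `m` (helper348)
-/

set_option autoImplicit false

namespace Cfsg.Agent.H348.Pw.Gr

open Cfsg.Agent.SporadicA.PermTab Equiv
open Cfsg.Agent.H922.Ore (Ok)
open Cfsg.Agent.H922.Ore.Gr Cfsg.Agent.H78.Pw

/-- **The class cover**: every element of `Q` is conjugate under `R` to the element given by one of the tables. -/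
theorem cls_all {n A : ℕ} [NeZero n] {Q R : Subgroup (Perm (Fin n))} (hQR : Q ≤ R) (hRA : R ≤ autG n A)
    (hnorm : ∀ r ∈ R, ∀ q ∈ Q, r * q * r⁻¹ ∈ Q) {ι : Type} [Fintype ι] (D : ι → Cls)
    (hD : ∀ i, (D i).chk n A = true) (hmem : ∀ i, ∀ P ∈ (D i).A ++ (D i).B ++ (D i).S ++ (D i).T ++ (D i).R, InG Q P)
    (hI : Function.Injective fun i => (D i).I) (hs : Nat.card Q ≤ ∑ i, Nat.card R / bnd (D i).L) :
    ∀ g ∈ Q, ∃ i, ∃ x ∈ Q, Acts x [(D i).X] ∧ ∃ c ∈ R, g = c * x * c⁻¹ := by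
  classical
  have h0 : ∀ i, ∃ x ∈ Q, Acts x [(D i).X] ∧ Ok Q x := by
    intro i
    have h := hD i
    simp only [Cls.chk, Bool.and_eq_true] at h
    exact Wit.ok (D i).toWit h.1 (hmem i)
  choose x hxQ hxA hxO using h0
  have : (Q.subgroupOf R).Normal := by
    refine ⟨fun q hq r => ?_⟩
    rw [Subgroup.mem_subgroupOf] at hq ⊢
    exact hnorm r r.2 q hq
  intro g hg
  have hcard : Nat.card (Q.subgroupOf R) = Nat.card Q := Nat.card_congr (Subgroup.subgroupOfEquivOfLe hQR).toEquiv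
  obtain ⟨i, hi⟩ := complete (Q.subgroupOf R) (fun i => (⟨x i, hQR (hxQ i)⟩ : R)) (fun i => bnd (D i).L)
    (fun i => hxQ i) (by
      intro i
      have h := hD i
      simp only [Cls.chk, Bool.and_eq_true] at h
      have e : Nat.card ↥(Subgroup.centralizer ({(⟨x i, hQR (hxQ i)⟩ : R)} : Set R)) =
          Nat.card ↥((Subgroup.centralizer ({(⟨x i, hQR (hxQ i)⟩ : R)} : Set R)).map R.subtype) :=
        Nat.card_congr (Subgroup.equivMapOfInjective _ _ R.subtype_injective).toEquiv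
      rw [e]
      refine card_le_of_chC (hxA i) (D i).m (D i).k (D i).L _ [] ?_ ?_ ?_ h.2.1
      · rintro _ ⟨c, -, rfl⟩
        exact hRA c.2
      · rintro _ ⟨c, hc, rfl⟩ j
        have hc' := Subgroup.mem_centralizer_singleton_iff.1 hc
        have h1 := congrArg (fun z : R => (z : Perm (Fin n)) j) hc'
        exact h1
      · intro c _ f hf
        exact absurd hf List.not_mem_nil) (by
      intro i j hij
      obtain ⟨c, hc⟩ := isConj_iff.1 hij
      have h1 : (c : Perm (Fin n)) * x i * (c : Perm (Fin n))⁻¹ = x j := congrArg Subtype.val hc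
      have h2 : (c : Perm (Fin n)) * x i = x j * c := by rw [← h1]; group
      have h3 := inv4v_conj (hRA c.2) h2
      have key : ∀ i, inv4v A (x i) = (D i).I := by
        intro i
        have h := hD i
        simp only [Cls.chk, Bool.and_eq_true] at h
        obtain ⟨-, -, h4⟩ := h
        split at h4
        · next v2 v1 w2 w1 he =>
          rw [he]
          exact inv4v_of (hxA i) h4
        · exact absurd h4 (by simp)
      rw [key, key] at h3
      exact hI h3) (by rw [hcard]; exact hs) ⟨g, hQR hg⟩ hg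
  obtain ⟨c, hc⟩ := isConj_iff.1 hi
  have h1 : (c : Perm (Fin n)) * x i * (c : Perm (Fin n))⁻¹ = g := congrArg Subtype.val hc
  exact ⟨i, x i, hxQ i, hxA i, c, c.2, h1.symm⟩

/-- powers of words -/
def powL (L : List ℕ) : ℕ → List ℕ
  | 0 => []
  | k + 1 => powL L k ++ L

theorem acts_pow {n : ℕ} {g : Perm (Fin n)} {L : List ℕ} (hg : Acts g L) (k : ℕ) : Acts (g ^ k) (powL L k) := by
  induction k with
  | zero => rw [pow_zero]; exact Acts.one
  | succ k ih => rw [pow_succ']; exact Acts.mul hg ih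

/-- a factorisation: a word for the first factor, a table for the second one, the orders -/
structure Fac where
  A : List ℕ
  B : ℕ
  a : ℕ
  b : ℕ

/-- the check -/
def Fac.chk (n m X : ℕ) (w : Fac) : Bool :=
  eqv n (w.B :: w.A) [X] && (allB (fun i => Nat.blt (lk w.B i) n) n && (eqv n (powL w.A w.a) [] &&
    (eqv n (powL [w.B] w.b) [] && (Nat.beq (Nat.gcd w.a m) 1 && Nat.beq (Nat.gcd w.b m) 1))))

theorem Fac.ok {n m X : ℕ} {G : Subgroup (Perm (Fin n))} {x : Perm (Fin n)} (hxG : x ∈ G) (hx : Acts x [X]) (w : Fac)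
    (h : w.chk n m X = true) (hm : ∀ P ∈ w.A, InG G P) :
    ∃ a ∈ G, ∃ b ∈ G, x = a * b ∧ a ^ w.a = 1 ∧ b ^ w.b = 1 ∧ w.a.Coprime m ∧ w.b.Coprime m := by
  simp only [Fac.chk, Bool.and_eq_true] at h
  obtain ⟨h1, h2, h3, h4, h5, h6⟩ := h
  obtain ⟨a, ha, ha'⟩ := exists_ev w.A hm
  have hb : Acts (a⁻¹ * x) [w.B] := by
    intro i
    have e3 : lk w.B i < n := by
      have := (allB_iff _ _).1 h2 _ i.2
      rwa [Nat.blt_eq] at this
    have e2 := Nat.eq_of_beq_eq_true ((allB_iff _ _).1 h1 _ i.2)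
    have e4 : a ⟨lk w.B i, e3⟩ = x i := by
      apply Fin.ext
      rw [ha', hx]
      exact e2
    have e5 : a⁻¹ (x i) = ⟨lk w.B i, e3⟩ := by
      rw [← e4]
      simp
    show ((a⁻¹ (x i) : Fin n) : ℕ) = _
    rw [e5]
    rfl
  refine ⟨a, ha, a⁻¹ * x, G.mul_mem (G.inv_mem ha) hxG, by group, Acts.eq (acts_pow ha' _) Acts.one h3,
    Acts.eq (acts_pow hb _) Acts.one h4, Nat.eq_of_beq_eq_true h5, Nat.eq_of_beq_eq_true h6⟩

/-- **All elements of `Q` are products of two elements of order prime to `m`.** -/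
theorem all_of_fac {n : ℕ} {Q R : Subgroup (Perm (Fin n))} (hnorm : ∀ r ∈ R, ∀ q ∈ Q, r * q * r⁻¹ ∈ Q)
    {ι : Type} {D : ι → Cls} (hcov : ∀ g ∈ Q, ∃ i, ∃ x ∈ Q, Acts x [(D i).X] ∧ ∃ c ∈ R, g = c * x * c⁻¹) {m : ℕ}
    (W : ι → Fac) (hW : ∀ i, (W i).chk n m (D i).X = true) (hm : ∀ i, ∀ P ∈ (W i).A, InG Q P) : All m Q := by
  rintro ⟨g, hg⟩
  obtain ⟨i, x, hx, hxA, c, hc, rfl⟩ := hcov g hg
  obtain ⟨a, ha, b, hb, h1, h2, h3, h4, h5⟩ := Fac.ok hx hxA (W i) (hW i) (hm i)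
  have key : ∀ (y : Perm (Fin n)) (k : ℕ), y ^ k = 1 → (c * y * c⁻¹) ^ k = 1 := by
    intro y k h
    rw [conj_pow, h, mul_one, mul_inv_cancel]
  refine ⟨⟨_, hnorm c hc a ha⟩, ⟨_, hnorm c hc b hb⟩, Subtype.ext ?_, ?_, ?_⟩
  · show c * x * c⁻¹ = (c * a * c⁻¹) * (c * b * c⁻¹)
    rw [h1]
    group
  · exact Nat.Coprime.of_dvd_left (orderOf_dvd_of_pow_eq_one (Subtype.ext (key a _ h2))) h4
  · exact Nat.Coprime.of_dvd_left (orderOf_dvd_of_pow_eq_one (Subtype.ext (key b _ h3))) h5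

end Cfsg.Agent.H348.Pw.Gr
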