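import Cfsg.Agent.H922.Ore.MTwelve
import Cfsg.Agent.H78.Pw.Base

/-!
# The classes of `M₁₂` and `M₁₁`, covered by the lists of representatives of H922 (helper348)
-/

set_option autoImplicit false

namespace Cfsg.Agent.H348.Pw

open Cfsg Equiv Cfsg.Agent.SporadicStructure.M12Core Cfsg.Agent.SporadicStructure.DodecadM12
open Cfsg.Agent.H922.Ore
open scoped Pointwise

/-- `g` is conjugate in `G` to one of the representatives -/
def Cl (G : Subgroup (Perm GolayPt)) (R : List (List ℕ)) (g : Perm GolayPt) : Prop :=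
  ∃ r < R.length, ∃ c ∈ G, g * c = c * perm (rep R r)

theorem Cl.conj {G : Subgroup (Perm GolayPt)} {R : List (List ℕ)} {g r c : Perm GolayPt} (hr : Cl G R r) (hc : c ∈ G)
    (h : g * c = c * r) : Cl G R g := by
  obtain ⟨k, hk, d, hd, h1⟩ := hr
  refine ⟨k, hk, c * d, G.mul_mem hc hd, ?_⟩
  rw [← mul_assoc, h, mul_assoc, h1, mul_assoc]

theorem cl_of_okC {G : Subgroup (Perm GolayPt)} {mem : ℕ → Bool} (hG : Mem G mem) {R : List (List ℕ)}
    (hR : okRs mem R = true) {r c : ℕ} {W : List ℕ} (hW : ∀ t ∈ W, valid t = true) (h : okC mem R r c W = true) :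
    Cl G R (wp W) := by
  simp only [okC, Bool.and_eq_true] at h
  obtain ⟨h1, h2, h3⟩ := h
  have h4 : r < R.length := by simpa using h1
  have h5 : okR mem (R.getD r []) = true := by
    have := List.all_eq_true.1 hR (R[r]) (List.getElem_mem h4)
    rwa [List.getD_eq_getElem _ _ h4]
  obtain ⟨h6, h7⟩ := ok_of_okR hG h5
  refine ⟨r, h4, _, hG.mem c h2, ?_⟩
  have h8 := wp_eq (L := W ++ [c]) (M := [c, rep R r]) (by
    intro t ht
    rw [List.mem_append, List.mem_singleton] at ht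
    rcases ht with ht | rfl
    · exact hW t ht
    · exact hG.valid t h2) (by
    intro t ht
    simp only [List.mem_cons, List.not_mem_nil, or_false] at ht
    rcases ht with rfl | rfl
    · exact hG.valid _ h2
    · exact h6) h3
  rw [wp_append, wp_one, wp_cons, wp_one] at h8
  exact h8

theorem cl_of_cov {G : Subgroup (Perm GolayPt)} (hG12 : G ≤ Spor.M12) {mem : ℕ → Bool} (hG : Mem G mem)
    {R : List (List ℕ)} (hR : okRs mem R = true) {T : List (ℕ × ℕ × ℕ)} (hT : okT mem R T = true)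
    {g : Perm GolayPt} (hg : g ∈ G) (h : cov T (im g) = true) : Cl G R g := by
  rw [cov, List.any_eq_true] at h
  obtain ⟨e, he, h1⟩ := h
  have h2 := List.all_eq_true.1 hT e he
  rw [Bool.and_eq_true] at h2
  have hv := hG.valid _ h2.1
  have h3 := cl_of_okC hG hR (W := [e.1]) (by simpa using hv) h2.2
  rw [wp_one] at h3
  have h4 : g = perm e.1 := by
    refine eq_of_fix (hG12 hg) (hG12 (hG.mem _ h2.1)) fun i => pos_injective ?_
    rw [pos_perm hv]
    rw [beq_iff_eq] at h1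
    simp only [imT, im, List.cons.injEq, and_true] at h1
    obtain ⟨e0, e1, e2, e3, e4⟩ := h1
    fin_cases i
    · show pos (g (ofPos 0)) = dig e.1 (pos (ofPos 0))
      rw [pos_ofPos (by norm_num), e0]
    · show pos (g (ofPos 1)) = dig e.1 (pos (ofPos 1))
      rw [pos_ofPos (by norm_num), e1]
    · show pos (g (ofPos 2)) = dig e.1 (pos (ofPos 2))
      rw [pos_ofPos (by norm_num), e2]
    · show pos (g (ofPos 3)) = dig e.1 (pos (ofPos 3))
      rw [pos_ofPos (by norm_num), e3]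
    · show pos (g (ofPos 4)) = dig e.1 (pos (ofPos 4))
      rw [pos_ofPos (by norm_num), e4]
  rw [h4]
  exact h3

/-- conjugation to a standard position -/
theorem conjC12 {g : Perm GolayPt} {x0 x1 x2 x3 x4 : GolayPt} (h : [x0, x1, x2, x3, x4].Nodup)
    (h0 : x0 ∈ Spor.squareDodecad) (h1 : x1 ∈ Spor.squareDodecad) (h2 : x2 ∈ Spor.squareDodecad)
    (h3 : x3 ∈ Spor.squareDodecad) (h4 : x4 ∈ Spor.squareDodecad) (hg : g ∈ Spor.M12)
    (key : ∀ c ∈ Spor.M12, c x0 = ofPos 0 → c x1 = ofPos 1 → c x2 = ofPos 2 → c x3 = ofPos 3 → c x4 = ofPos 4 →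
      cov T12 (im (c * g * c⁻¹)) = true) : Cl Spor.M12 R12 g := by
  obtain ⟨c, hc, c0, c1, c2, c3, c4⟩ := tr12 h h0 h1 h2 h3 h4
  have h5 := cl_of_cov le_rfl Mem12 R12_ok T12_ok (Spor.M12.mul_mem (Spor.M12.mul_mem hc hg) (Spor.M12.inv_mem hc))
    (key c hc c0 c1 c2 c3 c4)
  refine Cl.conj h5 (Spor.M12.inv_mem hc) ?_
  group

theorem cl12 (g : Perm GolayPt) (hg : g ∈ Spor.M12) : Cl Spor.M12 R12 g := by
  have hm : ∀ {c : Perm GolayPt}, c ∈ Spor.M12 → c * g * c⁻¹ ∈ Spor.M12 := fun hc =>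
    Spor.M12.mul_mem (Spor.M12.mul_mem hc hg) (Spor.M12.inv_mem hc)
  have iv : ∀ {p : GolayPt}, p ∈ Spor.squareDodecad → g p ∈ Spor.squareDodecad := fun hp => inv_dd hg hp
  rcases cyc5 (σ := g) (Y := Spor.squareDodecad) (by rw [card_squareDodecad]; norm_num) with
    ⟨x, hx, hn⟩ | ⟨x, hx, z, hz, h1, hn⟩ | ⟨x, hx, z, hz, h1, hn⟩ | ⟨x, hx, z, hz, w, hw, h1, h2, h3, hn⟩ |
    ⟨x, hx, z, hz, w, hw, h1, h2, hn⟩ | ⟨x, hx, z, hz, w, hw, u, hu, h1, h2, h3, h4, hn⟩ |
    ⟨x, hx, y, hy, z, hz, w, hw, u, hu, h1, h2, h3, h4, h5, hn⟩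
  · refine conjC12 hn hx (iv hx) (iv (iv hx)) (iv (iv (iv hx))) (iv (iv (iv (iv hx)))) hg fun c hc c0 c1 c2 c3 c4 => ?_
    refine last (hm hc) (a := 1) (b := 2) (c := 3) (d := 4) ?_ ?_ ?_ ?_ (by decide +kernel)
    · rw [val c0, c1, pos_ofPos (by norm_num)]
    · rw [val c1, c2, pos_ofPos (by norm_num)]
    · rw [val c2, c3, pos_ofPos (by norm_num)]
    · rw [val c3, c4, pos_ofPos (by norm_num)]
  · refine conjC12 hn hx (iv hx) (iv (iv hx)) (iv (iv (iv hx))) hz hg fun c hc c0 c1 c2 c3 c4 => ?_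
    refine last (hm hc) (a := 1) (b := 2) (c := 3) (d := 0) ?_ ?_ ?_ ?_ (by decide +kernel)
    · rw [val c0, c1, pos_ofPos (by norm_num)]
    · rw [val c1, c2, pos_ofPos (by norm_num)]
    · rw [val c2, c3, pos_ofPos (by norm_num)]
    · rw [val c3, h1, c0, pos_ofPos (by norm_num)]
  · refine conjC12 hn hx (iv hx) (iv (iv hx)) hz (iv hz) hg fun c hc c0 c1 c2 c3 c4 => ?_
    refine last (hm hc) (a := 1) (b := 2) (c := 0) (d := 4) ?_ ?_ ?_ ?_ (by decide +kernel)
    · rw [val c0, c1, pos_ofPos (by norm_num)]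
    · rw [val c1, c2, pos_ofPos (by norm_num)]
    · rw [val c2, h1, c0, pos_ofPos (by norm_num)]
    · rw [val c3, c4, pos_ofPos (by norm_num)]
  · refine conjC12 hn hx (iv hx) (iv (iv hx)) hz hw hg fun c hc c0 c1 c2 c3 c4 => ?_
    have e : im (c * g * c⁻¹) = [1, 2, 0, 3, 4] := by
      unfold im
      rw [val c0, val c1, val c2, val c3, val c4, c1, c2, h1, h2, h3, c0, c3, c4, pos_ofPos (by norm_num),
        pos_ofPos (by norm_num), pos_ofPos (by norm_num), pos_ofPos (by norm_num), pos_ofPos (by norm_num)]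
    rw [e]
    decide +kernel
  · refine conjC12 hn hx (iv hx) hz (iv hz) hw hg fun c hc c0 c1 c2 c3 c4 => ?_
    refine last (hm hc) (a := 1) (b := 0) (c := 3) (d := 2) ?_ ?_ ?_ ?_ (by decide +kernel)
    · rw [val c0, c1, pos_ofPos (by norm_num)]
    · rw [val c1, h1, c0, pos_ofPos (by norm_num)]
    · rw [val c2, c3, pos_ofPos (by norm_num)]
    · rw [val c3, h2, c2, pos_ofPos (by norm_num)]
  · refine conjC12 hn hx (iv hx) hz hw hu hg fun c hc c0 c1 c2 c3 c4 => ?_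
    have e : im (c * g * c⁻¹) = [1, 0, 2, 3, 4] := by
      unfold im
      rw [val c0, val c1, val c2, val c3, val c4, c1, h1, h2, h3, h4, c0, c2, c3, c4, pos_ofPos (by norm_num),
        pos_ofPos (by norm_num), pos_ofPos (by norm_num), pos_ofPos (by norm_num), pos_ofPos (by norm_num)]
    rw [e]
    decide +kernel
  · refine conjC12 hn hx hy hz hw hu hg fun c hc c0 c1 c2 c3 c4 => ?_
    have e : im (c * g * c⁻¹) = [0, 1, 2, 3, 4] := by
      unfold im
      rw [val c0, val c1, val c2, val c3, val c4, h1, h2, h3, h4, h5, c0, c1, c2, c3, c4, pos_ofPos (by norm_num),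
        pos_ofPos (by norm_num), pos_ofPos (by norm_num), pos_ofPos (by norm_num), pos_ofPos (by norm_num)]
    rw [e]
    decide +kernel

/-! ### `M₁₁` -/

theorem conjC11 {g : Perm GolayPt} {x1 x2 x3 x4 : GolayPt} (h : [x1, x2, x3, x4].Nodup)
    (h1 : x1 ∈ Spor.squareDodecad.erase (ofPos 0)) (h2 : x2 ∈ Spor.squareDodecad.erase (ofPos 0))
    (h3 : x3 ∈ Spor.squareDodecad.erase (ofPos 0)) (h4 : x4 ∈ Spor.squareDodecad.erase (ofPos 0))
    (hg : g ∈ Spor.M11)
    (key : ∀ c ∈ Spor.M11, c x1 = ofPos 1 → c x2 = ofPos 2 → c x3 = ofPos 3 → c x4 = ofPos 4 →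
      cov T11 (im (c * g * c⁻¹)) = true) : Cl Spor.M11 R11 g := by
  rw [Finset.mem_erase] at h1 h2 h3 h4
  obtain ⟨c, hc, c0, c1, c2, c3, c4⟩ := tr12 (x0 := ofPos 0) (x1 := x1) (x2 := x2) (x3 := x3) (x4 := x4) (by
    rw [List.nodup_cons]
    refine ⟨?_, h⟩
    simp only [List.mem_cons, List.not_mem_nil, or_false, not_or]
    exact ⟨h1.1.symm, h2.1.symm, h3.1.symm, h4.1.symm⟩) (b_mem 0) h1.2 h2.2 h3.2 h4.2
  have hc' : c ∈ Spor.M11 := by
    refine ⟨hc, ?_⟩
    rw [ofPos_zero] at c0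
    exact c0
  have h5 := cl_of_cov M11_le Mem11 R11_ok T11_ok (Spor.M11.mul_mem (Spor.M11.mul_mem hc' hg) (Spor.M11.inv_mem hc'))
    (key c hc' c1 c2 c3 c4)
  refine Cl.conj h5 (Spor.M11.inv_mem hc') ?_
  group

theorem cl11 (g : Perm GolayPt) (hg : g ∈ Spor.M11) : Cl Spor.M11 R11 g := by
  have hm : ∀ {c : Perm GolayPt}, c ∈ Spor.M11 → c * g * c⁻¹ ∈ Spor.M11 := fun hc =>
    Spor.M11.mul_mem (Spor.M11.mul_mem hc hg) (Spor.M11.inv_mem hc)
  have iv : ∀ {p : GolayPt}, p ∈ Spor.squareDodecad.erase (ofPos 0) → g p ∈ Spor.squareDodecad.erase (ofPos 0) := by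
    intro p hp
    rw [Finset.mem_erase] at hp ⊢
    refine ⟨fun h => hp.1 ?_, inv_dd (M11_le hg) hp.2⟩
    apply g.injective
    rw [h, fix11 hg]
  have f0 : ∀ {c : Perm GolayPt}, c ∈ Spor.M11 → pos ((c * g * c⁻¹) (ofPos 0)) = 0 := fun hc => by
    rw [fix11 (hm hc), pos_ofPos (by norm_num)]
  rcases cyc4 (σ := g) (Y := Spor.squareDodecad.erase (ofPos 0)) (by
      rw [Finset.card_erase_of_mem (show ofPos 0 ∈ Spor.squareDodecad from b_mem 0), card_squareDodecad]; norm_num) with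
    ⟨x, hx, hn⟩ | ⟨x, hx, z, hz, h1, hn⟩ | ⟨x, hx, z, hz, h1, h2, hn⟩ | ⟨x, hx, z, hz, w, hw, h1, h2, h3, hn⟩ |
    ⟨x, hx, y, hy, z, hz, w, hw, h1, h2, h3, h4, hn⟩
  · refine conjC11 hn hx (iv hx) (iv (iv hx)) (iv (iv (iv hx))) hg fun c hc c1 c2 c3 c4 => ?_
    refine last (M11_le (hm hc)) (a := 0) (b := 2) (c := 3) (d := 4) (f0 hc) ?_ ?_ ?_ (by decide +kernel)
    · rw [val c1, c2, pos_ofPos (by norm_num)]
    · rw [val c2, c3, pos_ofPos (by norm_num)]
    · rw [val c3, c4, pos_ofPos (by norm_num)]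
  · refine conjC11 hn hx (iv hx) (iv (iv hx)) hz hg fun c hc c1 c2 c3 c4 => ?_
    refine last (M11_le (hm hc)) (a := 0) (b := 2) (c := 3) (d := 1) (f0 hc) ?_ ?_ ?_ (by decide +kernel)
    · rw [val c1, c2, pos_ofPos (by norm_num)]
    · rw [val c2, c3, pos_ofPos (by norm_num)]
    · rw [val c3, h1, c1, pos_ofPos (by norm_num)]
  · refine conjC11 hn hx (iv hx) hz (iv hz) hg fun c hc c1 c2 c3 c4 => ?_
    have e : im (c * g * c⁻¹) = [0, 2, 1, 4, 3] := by
      unfold im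
      rw [f0 hc, val c1, val c2, val c3, val c4, c2, h1, h2, c1, c3, c4, pos_ofPos (by norm_num),
        pos_ofPos (by norm_num), pos_ofPos (by norm_num), pos_ofPos (by norm_num)]
    rw [e]
    decide +kernel
  · refine conjC11 hn hx (iv hx) hz hw hg fun c hc c1 c2 c3 c4 => ?_
    have e : im (c * g * c⁻¹) = [0, 2, 1, 3, 4] := by
      unfold im
      rw [f0 hc, val c1, val c2, val c3, val c4, c2, h1, h2, h3, c1, c3, c4, pos_ofPos (by norm_num),
        pos_ofPos (by norm_num), pos_ofPos (by norm_num), pos_ofPos (by norm_num)]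
    rw [e]
    decide +kernel
  · refine conjC11 hn hx hy hz hw hg fun c hc c1 c2 c3 c4 => ?_
    have e : im (c * g * c⁻¹) = [0, 1, 2, 3, 4] := by
      unfold im
      rw [f0 hc, val c1, val c2, val c3, val c4, h1, h2, h3, h4, c1, c2, c3, c4, pos_ofPos (by norm_num),
        pos_ofPos (by norm_num), pos_ofPos (by norm_num), pos_ofPos (by norm_num)]
    rw [e]
    decide +kernel

end Cfsg.Agent.H348.Pw
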